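import Cfsg.Agent.Lib.Trans3.MajoranaPairs

/-!
One Majorana axis and a vector: the two fixed eigencomponents and their fusion.
-/

set_option autoImplicit false

namespace CfsgLib.Trans3.Sakuma

open Cfsg.Axial Majorana

variable {V : Type*} [AddCommGroup V] [Module ℝ V] {mul : V →ₗ[ℝ] V →ₗ[ℝ] V}
  {B : LinearMap.BilinForm ℝ V}

/-- An automorphism carries Majorana pairs to Majorana pairs. -/
theorem conj_pair {φ μ : V ≃ₗ[ℝ] V} (hφ : ∀ u v, φ (mul u v) = mul (φ u) (φ v))
    (hφB : ∀ u v, B (φ u) (φ v) = B u v) {a : V} (h : IsMajoranaPair mul B μ a) :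
    IsMajoranaPair mul B (φ * μ * φ⁻¹) (φ a) := by
  obtain ⟨hm, hB, ⟨⟨hne, hid, htop, hfus⟩, hprim⟩, hfix, hneg⟩ := h
  have hs : ∀ u v, φ.symm (mul u v) = mul (φ.symm u) (φ.symm v) := fun u v => φ.injective (by
    rw [hφ]; simp)
  have hsB : ∀ u v, B (φ.symm u) (φ.symm v) = B u v := fun u v => by
    conv_rhs => rw [← φ.apply_symm_apply u, ← φ.apply_symm_apply v, hφB]
  have hmap : ∀ c, eigen mul (φ a) c = (eigen mul a c).map (φ : V →ₗ[ℝ] V) := by
    intro c
    ext v
    rw [mem_eigen, Submodule.mem_map_equiv, mem_eigen]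
    constructor
    · intro e
      apply φ.injective
      rw [hφ, map_smul, LinearEquiv.apply_symm_apply, e]
    · intro e
      have := congrArg φ e
      rwa [hφ, map_smul, LinearEquiv.apply_symm_apply] at this
  have hsum : ∀ S, eigenSum mul (φ a) S = (eigenSum mul a S).map (φ : V →ₗ[ℝ] V) := by
    intro S
    simp only [eigenSum, Submodule.map_iSup, hmap]
  have happ : ∀ v, (φ * μ * φ⁻¹) v = φ (μ (φ.symm v)) := fun _ => rfl
  refine ⟨fun u v => by rw [happ, happ, happ, hs, hm, hφ],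
    fun u v => by rw [happ, happ, hφB, hB, hsB],
    ⟨⟨by simpa using hne, by rw [← hφ, hid], ?_, ?_⟩, ?_⟩, ?_, ?_⟩
  · rw [hsum, htop, Submodule.map_top, LinearEquiv.range]
  · intro c hc' d hd u hu v hv
    rw [hmap] at hu hv
    rw [hsum]
    obtain ⟨u', hu', rfl⟩ := hu
    obtain ⟨v', hv', rfl⟩ := hv
    exact ⟨mul u' v', hfus c hc' d hd u' hu' v' hv', hφ u' v'⟩
  · rw [hmap, hprim, Submodule.map_span, Set.image_singleton]; rfl
  · intro v hv
    rw [hsum] at hv
    obtain ⟨v', hv', rfl⟩ := hv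
    have e : μ v' = v' := hfix v' hv'
    show φ (μ (φ.symm (φ v'))) = φ v'
    rw [LinearEquiv.symm_apply_apply, e]
  · intro v hv
    rw [hmap] at hv
    obtain ⟨v', hv', rfl⟩ := hv
    have e : μ v' = -v' := hneg v' hv'
    show φ (μ (φ.symm (φ v'))) = -φ v'
    rw [LinearEquiv.symm_apply_apply, e, map_neg]

variable {μ : V ≃ₗ[ℝ] V} {a : V}

/-- The axis determines the involution. -/
theorem pair_unique (h : IsMajoranaPair mul B μ a) {ν : V ≃ₗ[ℝ] V}
    (h' : IsMajoranaPair mul B ν a) : μ = ν := by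
  obtain ⟨-, -, ⟨⟨-, -, htop, -⟩, -⟩, hfix, hneg⟩ := h
  obtain ⟨-, -, -, hfix', hneg'⟩ := h'
  ext v
  have hv : v ∈ eigenSum mul a majoranaSpectrum := htop ▸ Submodule.mem_top
  have hle : eigenSum mul a majoranaSpectrum ≤
      LinearMap.eqLocus (μ : V →ₗ[ℝ] V) (ν : V →ₗ[ℝ] V) := by
    refine iSup₂_le fun c hc w hw => ?_
    simp only [majoranaSpectrum, Set.mem_insert_iff, Set.mem_singleton_iff] at hc
    rw [LinearMap.mem_eqLocus]
    by_cases h32 : c = 1 / 32
    · subst h32
      rw [hneg w hw, hneg' w hw]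
    · have hmem : w ∈ eigenSum mul a {1, 0, 1 / 4} := eigen_le (by
        simp only [Set.mem_insert_iff, Set.mem_singleton_iff]; tauto) hw
      rw [hfix w hmem, hfix' w hmem]
  exact hle hv

/-- The involution fixes its axis. -/
theorem fix_axis (h : IsMajoranaPair mul B μ a) : μ a = a := by
  obtain ⟨-, -, ⟨⟨-, hid, -, -⟩, -⟩, hfix, -⟩ := h
  exact hfix a (eigen_le (c := 1) (by simp) (mem_eigen.2 (by rw [hid, one_smul])))

/-- The involution squares to one. -/
theorem pair_sq (h : IsMajoranaPair mul B μ a) (v : V) : μ (μ v) = v := by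
  obtain ⟨-, -, ⟨⟨-, -, htop, -⟩, -⟩, hfix, hneg⟩ := h
  have hv : v ∈ eigenSum mul a majoranaSpectrum := htop ▸ Submodule.mem_top
  have hle : eigenSum mul a majoranaSpectrum ≤
      LinearMap.eqLocus ((μ : V →ₗ[ℝ] V).comp (μ : V →ₗ[ℝ] V)) LinearMap.id := by
    refine iSup₂_le fun c hc w hw => ?_
    simp only [majoranaSpectrum, Set.mem_insert_iff, Set.mem_singleton_iff] at hc
    rw [LinearMap.mem_eqLocus, LinearMap.comp_apply, LinearMap.id_apply]
    by_cases h32 : c = 1 / 32
    · subst h32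
      rw [hneg w hw, map_neg, hneg w hw, neg_neg]
    · have hmem : w ∈ eigenSum mul a {1, 0, 1 / 4} := eigen_le (by
        simp only [Set.mem_insert_iff, Set.mem_singleton_iff]; tauto) hw
      rw [hfix w hmem, hfix w hmem]
  exact hle hv

/-- The symmetrised product. -/
noncomputable def sprod (mul : V →ₗ[ℝ] V →ₗ[ℝ] V) (a x : V) : V := mul a x - (1 / 32 : ℝ) • (a + x)

/-- The component of eigenvalue zero. -/
noncomputable def uPart (mul : V →ₗ[ℝ] V →ₗ[ℝ] V) (B : LinearMap.BilinForm ℝ V) (a x y : V) : V :=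
  (-4 : ℝ) • sprod mul a x + (3 * B a x - 1 / 8) • a + (7 / 16 : ℝ) • (x + y)

/-- The component of eigenvalue one quarter. -/
noncomputable def vPart (mul : V →ₗ[ℝ] V →ₗ[ℝ] V) (B : LinearMap.BilinForm ℝ V) (a x y : V) : V :=
  (4 : ℝ) • sprod mul a x + (1 / 8 - 4 * B a x) • a + (1 / 16 : ℝ) • (x + y)

theorem mem_eigenSum_singleton {c : ℝ} {v : V} :
    v ∈ eigenSum mul a {c} ↔ mul a v = c • v := by
  rw [eigenSum, iSup_singleton, mem_eigen]

/-- What the fusion law says about one axis and the pair `x`, `μ x`. -/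
theorem axis_facts (hV : IsMajoranaAmbient mul B) (h : IsMajoranaPair mul B μ a) (hn : B a a = 1)
    (x : V) :
    sprod mul a (μ x) = sprod mul a x ∧ B a (μ x) = B a x ∧
    mul a (sprod mul a x) =
      (7 / 32 : ℝ) • sprod mul a x + (3 / 4 * B a x - 25 / 1024) • a +
        (7 / 2048 : ℝ) • (x + μ x) ∧
    mul a (mul (uPart mul B a x (μ x)) (uPart mul B a x (μ x))) = 0 ∧
    mul a (mul (uPart mul B a x (μ x)) (vPart mul B a x (μ x))) =
      (1 / 4 : ℝ) • mul (uPart mul B a x (μ x)) (vPart mul B a x (μ x)) ∧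
    mul a (mul (vPart mul B a x (μ x)) (vPart mul B a x (μ x))) =
      (B (vPart mul B a x (μ x)) x / 4) • a := by
  obtain ⟨hcomm, hsymm, -, hass, -⟩ := hV
  obtain ⟨-, hBμ, ⟨⟨-, hid, htop, hfus⟩, hprim⟩, hfix, hneg⟩ := h
  have hsplit : eigenSum mul a majoranaSpectrum ≤
      (Submodule.span ℝ {a} ⊔ eigen mul a 0 ⊔ eigen mul a (1 / 4)) ⊔ eigen mul a (1 / 32) := by
    refine iSup₂_le fun c hc => ?_
    simp only [majoranaSpectrum, Set.mem_insert_iff, Set.mem_singleton_iff] at hc
    rcases hc with rfl | rfl | rfl | rfl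
    · rw [hprim]; exact le_sup_of_le_left (le_sup_of_le_left le_sup_left)
    · exact le_sup_of_le_left (le_sup_of_le_left le_sup_right)
    · exact le_sup_of_le_left le_sup_right
    · exact le_sup_right
  obtain ⟨z₁, hz₁, w, hw, hx₁⟩ :=
    Submodule.mem_sup.1 (hsplit (htop ▸ Submodule.mem_top (x := x)))
  obtain ⟨z₂, hz₂, v, hv, rfl⟩ := Submodule.mem_sup.1 hz₁
  obtain ⟨z₃, hz₃, u, hu, rfl⟩ := Submodule.mem_sup.1 hz₂
  obtain ⟨c, rfl⟩ := Submodule.mem_span_singleton.1 hz₃
  have hau : mul a u = 0 := by simpa using mem_eigen.1 hu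
  have hav : mul a v = (1 / 4 : ℝ) • v := mem_eigen.1 hv
  have haw : mul a w = (1 / 32 : ℝ) • w := mem_eigen.1 hw
  have hself : ∀ s t : V, B (mul a s) t = B s (mul a t) := fun s t => by
    rw [hass s a t, hcomm s a]
  have horth : ∀ (d e : ℝ) (s t : V), d ≠ e → mul a s = d • s → mul a t = e • t → B s t = 0 := by
    intro d e s t hde hs ht
    have := hself s t
    rw [hs, ht, map_smul, map_smul, LinearMap.smul_apply, smul_eq_mul, smul_eq_mul] at this
    have h0 : (d - e) * B s t = 0 := by linarith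
    exact (mul_eq_zero.1 h0).resolve_left (sub_ne_zero.2 hde)
  have ha1 : mul a a = (1 : ℝ) • a := by rw [hid, one_smul]
  have hu0 : mul a u = (0 : ℝ) • u := by rw [hau, zero_smul]
  have hBau := horth 1 0 a u (by norm_num) ha1 hu0
  have hBav := horth 1 (1 / 4) a v (by norm_num) ha1 hav
  have hBaw := horth 1 (1 / 32) a w (by norm_num) ha1 haw
  have hBvu := horth (1 / 4) 0 v u (by norm_num) hav hu0
  have hBvw := horth (1 / 4) (1 / 32) v w (by norm_num) hav haw
  have hc : B a x = c := by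
    rw [← hx₁]; simp [hn, hBau, hBav, hBaw]
  have hμx : μ x = c • a + u + v - w := by
    have e1 : μ a = a := hfix a (eigen_le (c := 1) (by simp) (mem_eigen.2 ha1))
    have e2 : μ u = u := hfix u (eigen_le (c := 0) (by simp) hu)
    have e3 : μ v = v := hfix v (eigen_le (c := 1 / 4) (by simp) hv)
    have e4 : μ w = -w := hneg w hw
    rw [← hx₁, map_add, map_add, map_add, map_smul, e1, e2, e3, e4]
    module
  have hax : mul a x = c • a + (1 / 4 : ℝ) • v + (1 / 32 : ℝ) • w := by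
    rw [← hx₁, map_add, map_add, map_add, map_smul, hid, hau, hav, haw, add_zero]
  have hay : mul a (μ x) = c • a + (1 / 4 : ℝ) • v - (1 / 32 : ℝ) • w := by
    rw [hμx, map_sub, map_add, map_add, map_smul, hid, hau, hav, haw, add_zero]
  have hU : uPart mul B a x (μ x) = u := by
    rw [uPart, sprod, hax, hc, hμx, ← hx₁]; module
  have hW : vPart mul B a x (μ x) = v := by
    rw [vPart, sprod, hax, hc, hμx, ← hx₁]; module
  refine ⟨?_, ?_, ?_, ?_, ?_, ?_⟩
  · rw [sprod, sprod, hax, hay, hμx, ← hx₁]; module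
  · rw [hc, hμx]; simp [hn, hBau, hBav, hBaw]
  · rw [sprod, map_sub, map_smul, map_add, hid, hax, hc, hμx, ← hx₁]
    simp only [map_add, map_smul, hid, hau, hav, haw]
    module
  · rw [hU]
    have h' := hfus 0 (by simp [majoranaSpectrum]) 0 (by simp [majoranaSpectrum]) u hu u hu
    have hlaw : monsterLaw (1 / 4 : ℝ) (1 / 32) 0 0 = {0} := by simp [monsterLaw]
    rw [hlaw, mem_eigenSum_singleton] at h'
    simpa using h'
  · rw [hU, hW]
    have h' := hfus 0 (by simp [majoranaSpectrum]) (1 / 4) (by simp [majoranaSpectrum]) u hu v hv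
    have hlaw : monsterLaw (1 / 4 : ℝ) (1 / 32) 0 (1 / 4) = {1 / 4} := by simp [monsterLaw]
    rw [hlaw, mem_eigenSum_singleton] at h'
    exact h'
  · rw [hW]
    have h' := hfus (1 / 4) (by simp [majoranaSpectrum]) (1 / 4) (by simp [majoranaSpectrum])
      v hv v hv
    have hlaw : monsterLaw (1 / 4 : ℝ) (1 / 32) (1 / 4) (1 / 4) = {1, 0} := by simp [monsterLaw]
    rw [hlaw] at h'
    have hle : eigenSum mul a ({1, 0} : Set ℝ) ≤
        Submodule.comap (mul a) (Submodule.span ℝ {a}) := by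
      refine iSup₂_le fun e he z hz => ?_
      rw [Submodule.mem_comap, mem_eigen.1 hz]
      rcases he with rfl | rfl
      · rw [hprim] at hz
        exact Submodule.smul_mem _ _ hz
      · simp
    obtain ⟨k, hk⟩ := Submodule.mem_span_singleton.1 (Submodule.mem_comap.1 (hle h'))
    have hk' : k = B v x / 4 := by
      have e : B a (mul a (mul v v)) = k := by rw [← hk, map_smul, hn, smul_eq_mul, mul_one]
      rw [hass, hid, hass, hav] at e
      rw [← e, map_smul, LinearMap.smul_apply, smul_eq_mul, ← hx₁]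
      simp only [map_add, map_smul, hBvu, hBvw, hsymm v a, hBav, smul_eq_mul]
      ring
    rw [← hk, hk']

end CfsgLib.Trans3.Sakuma
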