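import Cfsg.Agent.Lib.Trans3.Sakuma.Relations

/-!
The nine possible parameter values of a dihedral sequence of Majorana axes, and periodicity.
-/

set_option autoImplicit false

namespace CfsgLib.Trans3.Sakuma

open Cfsg.Axial Majorana

variable {V : Type*} [AddCommGroup V] [Module ℝ V] {mul : V →ₗ[ℝ] V →ₗ[ℝ] V}
  {B : LinearMap.BilinForm ℝ V}

namespace Axes

variable (S : Axes mul B)

set_option maxHeartbeats 1000000 in
theorem params :
    (S.dL = 0 ∧ S.dP = 1) ∨ (S.dL = 1 / 64 ∧ S.dP = 1 / 64) ∨ (S.dL = 1 / 64 ∧ S.dP = 1 / 8) ∨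
    (S.dL = 5 / 256 ∧ S.dP = 13 / 256) ∨ (S.dL = 3 / 128 ∧ S.dP = 3 / 128) ∨
    (S.dL = 1 / 32 ∧ S.dP = 0) ∨ (S.dL = 13 / 256 ∧ S.dP = 13 / 256) ∨
    (S.dL = 1 / 8 ∧ S.dP = 1) ∨ (S.dL = 1 ∧ S.dP = 1) := by
  have F0 := S.eqn_zero
  have F1 := S.eqn_one
  generalize S.dL = x at F0 F1 ⊢
  generalize S.dP = y at F0 F1 ⊢
  have lin : ((-(26325 / 343 : ℝ) + -(3430080 / 343 : ℝ) * x + (6635520 / 7 : ℝ) * x^2 + (141557760 / 343 : ℝ) * x^3) * y + ((26325 / 343 : ℝ) + -(2652480 / 343 : ℝ) * x + (48107520 / 343 : ℝ) * x^2 + (1473085440 / 343 : ℝ) * x^3 + -(38220595200 / 343 : ℝ) * x^4 + (36238786560 / 343 : ℝ) * x^5)) = 0 := by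
    linear_combination (48 / 7 : ℝ) * F0 + ((2088 / 49 : ℝ) + (70656 / 49 : ℝ) * x) * F1
  have hres : x * (x - 1 / 64) ^ 2 * (x - 5 / 256) * (x - 3 / 128) * (x - 1 / 32) * (x - 13 / 256) *
      (x - 1 / 8) * (x - 1) = 0 := by
    have key : (-3939748954023709900800 / 16807 : ℝ) * (x * (x - 1 / 64) ^ 2 * (x - 5 / 256) *
        (x - 3 / 128) * (x - 1 / 32) * (x - 13 / 256) * (x - 1 / 8) * (x - 1)) = 0 := by
      linear_combination
        (-(26325 / 343 : ℝ) + -(3430080 / 343 : ℝ) * x + (6635520 / 7 : ℝ) * x^2 + (141557760 / 343 : ℝ) * x^3) ^ 2 * F1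
        - ((48 / 7 : ℝ) * ((-(26325 / 343 : ℝ) + -(3430080 / 343 : ℝ) * x + (6635520 / 7 : ℝ) * x^2 + (141557760 / 343 : ℝ) * x^3) * y - ((26325 / 343 : ℝ) + -(2652480 / 343 : ℝ) * x + (48107520 / 343 : ℝ) * x^2 + (1473085440 / 343 : ℝ) * x^3 + -(38220595200 / 343 : ℝ) * x^4 + (36238786560 / 343 : ℝ) * x^5)) + (-(501 / 56 : ℝ) + (3336 / 7 : ℝ) * x + (15360 / 7 : ℝ) * x^2) * (-(26325 / 343 : ℝ) + -(3430080 / 343 : ℝ) * x + (6635520 / 7 : ℝ) * x^2 + (141557760 / 343 : ℝ) * x^3)) * lin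
    exact (mul_eq_zero.1 key).resolve_left (by norm_num)
  simp only [mul_eq_zero, pow_eq_zero_iff two_ne_zero, sub_eq_zero, or_assoc] at hres
  rcases hres with rfl | rfl | rfl | rfl | rfl | rfl | rfl | rfl <;> norm_num at lin F1 ⊢
  -- the double root leaves a quadratic
  all_goals first
    | linarith
    | (have h : (8 * y - 1) * (64 * y - 1) = 0 := by linear_combination (512 * 7 / 48 : ℝ) * F1
       rcases mul_eq_zero.1 h with h | h <;> [right; left] <;> linarith)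

include S in
theorem eq_of_B_one {x y : V} (hx : B x x = 1) (hy : B y y = 1) (hxy : B x y = 1) : x = y := by
  by_contra h
  have h1 := S.amb.2.2.1 (x - y) (sub_ne_zero.2 h)
  simp only [map_sub, LinearMap.sub_apply, hx, hy, hxy, S.symm_B y x] at h1
  linarith

theorem mu_eq_of_ax {i j : ℤ} (h : S.ax i = S.ax j) : S.mu i = S.mu j :=
  pair_unique (S.pair i) (h ▸ S.pair j)

/-- Two axes at distance at most six determine the same involution. -/
theorem periodic : ∃ i j : ℤ, 1 ≤ j - i ∧ j - i ≤ 6 ∧ S.mu i = S.mu j := by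
  have from0 : ∀ n : ℤ, 1 ≤ n → n ≤ 6 → S.al n = 1 →
      ∃ i j : ℤ, 1 ≤ j - i ∧ j - i ≤ 6 ∧ S.mu i = S.mu j := fun n h1 h6 h =>
    ⟨0, n, by omega, by omega, S.mu_eq_of_ax (S.eq_of_B_one (S.norm 0) (S.norm n) h)⟩
  have p2 : S.dP = 1 → _ := from0 2 (by norm_num) (by norm_num)
  rcases S.params with ⟨hL, hP⟩ | ⟨hL, hP⟩ | ⟨hL, hP⟩ | ⟨hL, hP⟩ | ⟨hL, hP⟩ | ⟨hL, hP⟩ |
    ⟨hL, hP⟩ | ⟨hL, hP⟩ | ⟨hL, hP⟩
  · exact p2 hP
  · exact from0 3 (by norm_num) (by norm_num) (by rw [S.al_three, hL, hP]; norm_num)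
  · exact from0 4 (by norm_num) (by norm_num) (by rw [S.al_four, hL, hP]; norm_num)
  · refine ⟨-3, 3, by norm_num, by norm_num, S.mu_eq_of_ax ?_⟩
    refine S.eq_of_B_one (S.norm _) (S.norm _) ?_
    have e2 : B (S.ax (-3)) S.sigE = _ := (S.symm_B _ _).trans (by simpa using S.B_sigE_odd (-2))
    have o2 : B (S.ax (-3)) S.sigO = _ := (S.symm_B _ _).trans (by simpa using S.B_sigO_odd (-2))
    have l1 : B (S.ax (-3)) (S.ax (-2)) = S.dL := by simpa using S.B_adj (-3)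
    have q1 : B (S.ax (-3)) (S.ax (-1)) = S.dQ := by simpa using S.B_two_odd (-2)
    have t1 : B (S.ax (-3)) (S.ax 0) = S.al 3 := by simpa using S.B_odd (-3) 1
    have f1 : B (S.ax (-3)) (S.ax 1) = S.al 4 := by
      have := S.B_shift_even 1 5 (-2)
      norm_num at this
      rw [this, S.al_four_odd]
    have v1 : B (S.ax (-3)) (S.ax 2) = S.al 5 := by simpa using S.B_odd (-3) 2
    rw [S.next_ax]
    simp only [rVec, map_add, map_smul, smul_eq_mul, l1, q1, t1, f1, v1, e2, o2, S.al_three,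
      S.al_four, S.al_five, ← S.dP_eq, hL, hP]
    norm_num
  · exact from0 5 (by norm_num) (by norm_num) (by rw [S.al_five, hL, hP]; norm_num)
  · exact from0 4 (by norm_num) (by norm_num) (by rw [S.al_four, hL, hP]; norm_num)
  · exact from0 3 (by norm_num) (by norm_num) (by rw [S.al_three, hL, hP]; norm_num)
  · exact p2 hP
  · exact from0 1 (by norm_num) (by norm_num) hL

end Axes

end CfsgLib.Trans3.Sakuma
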