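import Cfsg.Agent.Lib.Trans3.Sakuma.Classify

/-!
The sequence of axes generated by two Majorana involutions, and Sakuma's bound.
-/

set_option autoImplicit false

namespace CfsgLib.Trans3.Sakuma

open Cfsg.Axial Majorana

variable {V : Type*} [AddCommGroup V] [Module ℝ V] {mul : V →ₗ[ℝ] V →ₗ[ℝ] V}
  {B : LinearMap.BilinForm ℝ V}

/-- Linear automorphisms preserving the product and the form. -/
def autGroup (mul : V →ₗ[ℝ] V →ₗ[ℝ] V) (B : LinearMap.BilinForm ℝ V) : Subgroup (V ≃ₗ[ℝ] V) where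
  carrier := {φ | (∀ u v, φ (mul u v) = mul (φ u) (φ v)) ∧ ∀ u v, B (φ u) (φ v) = B u v}
  one_mem' := ⟨fun _ _ => rfl, fun _ _ => rfl⟩
  mul_mem' {φ ψ} hφ hψ := ⟨fun u v => show φ (ψ (mul u v)) = _ by rw [hψ.1, hφ.1]; rfl,
    fun u v => show B (φ (ψ u)) (φ (ψ v)) = _ by rw [hφ.2, hψ.2]⟩
  inv_mem' {φ} hφ := ⟨fun u v => φ.injective (show φ (φ.symm (mul u v)) = φ (mul (φ.symm u) (φ.symm v))
      by rw [hφ.1]; simp), fun u v => show B (φ.symm u) (φ.symm v) = _ by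
        rw [← hφ.2 (φ.symm u)]; simp⟩

variable {μ₀ μ₁ : V ≃ₗ[ℝ] V} {a₀ a₁ : V}

theorem rho_mem (h₀ : IsMajoranaPair mul B μ₀ a₀) (h₁ : IsMajoranaPair mul B μ₁ a₁) (k : ℤ) :
    (μ₁ * μ₀) ^ k ∈ autGroup mul B := by
  refine Subgroup.zpow_mem _ (Subgroup.mul_mem _ ?_ ?_) k
  · exact And.intro h₁.1 h₁.2.1
  · exact And.intro h₀.1 h₀.2.1

theorem pair_mul_self (h : IsMajoranaPair mul B μ₀ a₀) : μ₀ * μ₀ = 1 := LinearEquiv.ext (pair_sq h)

theorem rho_inv (h₀ : IsMajoranaPair mul B μ₀ a₀) (h₁ : IsMajoranaPair mul B μ₁ a₁) :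
    (μ₁ * μ₀)⁻¹ = μ₀ * μ₁ := by
  rw [mul_inv_rev, inv_eq_of_mul_eq_one_right (pair_mul_self h₀),
    inv_eq_of_mul_eq_one_right (pair_mul_self h₁)]

theorem flip_rho (h₀ : IsMajoranaPair mul B μ₀ a₀) (h₁ : IsMajoranaPair mul B μ₁ a₁) (k : ℤ) :
    μ₀ * (μ₁ * μ₀) ^ k = (μ₁ * μ₀) ^ (-k) * μ₀ := by
  have h : MulAut.conj μ₀ (μ₁ * μ₀) = (μ₁ * μ₀)⁻¹ := by
    rw [MulAut.conj_apply, rho_inv h₀ h₁, inv_eq_of_mul_eq_one_right (pair_mul_self h₀),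
      mul_assoc μ₀, mul_assoc μ₁, pair_mul_self h₀, mul_one]
  have h' := congrArg (· ^ k) h
  rw [← map_zpow, MulAut.conj_apply, inv_zpow, ← zpow_neg] at h'
  rw [← h', inv_mul_cancel_right]

theorem conj_odd {G : Type*} [Group G] {x t u : G} (hu : u = x * t) {k : ℤ}
    (h : t * x ^ (-k) = x ^ k * t) : x ^ k * u * x ^ (-k) = x ^ (2 * k + 1) * t := by
  rw [hu, mul_assoc, mul_assoc, h, ← mul_assoc x, ← mul_assoc, show x * x ^ k = x ^ (1 + k) by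
    rw [zpow_add, zpow_one], ← zpow_add, show k + (1 + k) = 2 * k + 1 by ring]

/-- The axes of the dihedral group generated by two involutions. -/
noncomputable def ofPair (hV : IsMajoranaAmbient mul B) (h₀ : IsMajoranaPair mul B μ₀ a₀)
    (h₁ : IsMajoranaPair mul B μ₁ a₁) (hn₀ : B a₀ a₀ = 1) (hn₁ : B a₁ a₁ = 1) : Axes mul B where
  amb := hV
  ax i := ((μ₁ * μ₀) ^ (i / 2)) (if i % 2 = 0 then a₀ else a₁)
  mu i := (μ₁ * μ₀) ^ i * μ₀
  pair i := by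
    have hmem := rho_mem h₀ h₁
    obtain ⟨k, rfl | rfl⟩ := Int.even_or_odd' i
    · have := conj_pair (hmem k).1 (hmem k).2 h₀
      rw [mul_assoc, ← zpow_neg, flip_rho h₀ h₁, neg_neg, ← mul_assoc, ← zpow_add, ← two_mul] at this
      rw [if_pos (by omega), show 2 * k / 2 = k by omega]
      exact this
    · have := conj_pair (hmem k).1 (hmem k).2 h₁
      rw [← zpow_neg, conj_odd (t := μ₀) (by rw [mul_assoc, pair_mul_self h₀, mul_one])
        (by rw [flip_rho h₀ h₁, neg_neg])] at this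
      rw [if_neg (by omega), show (2 * k + 1) / 2 = k by omega]
      exact this
  refl c i := by
    have app : ∀ (φ ψ : V ≃ₗ[ℝ] V) (v : V), (φ * ψ) v = φ (ψ v) := fun _ _ _ => rfl
    obtain ⟨k, rfl | rfl⟩ := Int.even_or_odd' i
    · rw [← app, mul_assoc, flip_rho h₀ h₁, ← mul_assoc, ← zpow_add, app, if_pos (by omega),
        fix_axis h₀, if_pos (by omega)]
      congr 2
      omega
    · have e : μ₀ a₁ = ((μ₁ * μ₀) ^ (-1 : ℤ)) a₁ := by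
        rw [zpow_neg_one, rho_inv h₀ h₁, app, fix_axis h₁]
      rw [← app, mul_assoc, flip_rho h₀ h₁, ← mul_assoc, ← zpow_add, app, if_neg (by omega), e,
        ← app, ← zpow_add, if_neg (by omega)]
      congr 2
      omega
  norm i := by
    rw [(rho_mem h₀ h₁ (i / 2)).2]
    split_ifs <;> assumption

/-- Sakuma's theorem. -/
theorem order_le_six (hV : IsMajoranaAmbient mul B) (h₀ : IsMajoranaPair mul B μ₀ a₀)
    (h₁ : IsMajoranaPair mul B μ₁ a₁) (hn₀ : B a₀ a₀ = 1) (hn₁ : B a₁ a₁ = 1) :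
    ∃ n : ℕ, 1 ≤ n ∧ n ≤ 6 ∧ (μ₀ * μ₁) ^ n = 1 := by
  obtain ⟨i, j, h1, h6, h⟩ := (ofPair hV h₀ h₁ hn₀ hn₁).periodic
  have h' : (μ₁ * μ₀) ^ i = (μ₁ * μ₀) ^ j := mul_right_cancel h
  refine ⟨(j - i).toNat, by omega, by omega, ?_⟩
  have e : μ₀ * μ₁ = (μ₁ * μ₀)⁻¹ := (rho_inv h₀ h₁).symm
  rw [e, inv_pow, inv_eq_one, ← zpow_natCast, Int.toNat_of_nonneg (by omega), zpow_sub, ← h',
    mul_inv_cancel]

end CfsgLib.Trans3.Sakuma
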