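import Cfsg.Agent.Lib.Trans3.Sakuma.Sequence

/-!
The resurrection identities: two new products and the recurrence for the axes.
-/

set_option autoImplicit false

namespace CfsgLib.Trans3.Sakuma

open Cfsg.Axial Majorana

variable {V : Type*} [AddCommGroup V] [Module ℝ V] {mul : V →ₗ[ℝ] V →ₗ[ℝ] V}
  {B : LinearMap.BilinForm ℝ V}

namespace Axes

/-- The product of the base axis with the other product at distance two. -/
noncomputable def xVec (S : Axes mul B) : V :=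
  (-(19 / 3072 : ℝ) + (1 / 6 : ℝ) * S.dL) • S.ax (-1) +
      ((7 / 6144 : ℝ)) • S.ax (-2) +
      (-(127 / 3072 : ℝ) + -(1 / 24 : ℝ) * S.dQ + (5 / 3 : ℝ) * S.dL + -(32 / 3 : ℝ) * S.dL^2) • S.ax 0 +
      (-(19 / 3072 : ℝ) + (1 / 6 : ℝ) * S.dL) • S.ax 1 +
      ((7 / 6144 : ℝ)) • S.ax 2 +
      (-(19 / 48 : ℝ) + (32 / 3 : ℝ) * S.dL) • S.sig +
      ((7 / 96 : ℝ)) • S.sigE

/-- The square of the symmetrised product of neighbours. -/
noncomputable def tVec (S : Axes mul B) : V :=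
  (-(245 / 196608 : ℝ) + (49 / 768 : ℝ) * S.dL) • S.ax (-1) +
      ((49 / 196608 : ℝ)) • S.ax (-2) +
      (-(7 / 98304 : ℝ) + (7 / 1536 : ℝ) * S.dQ + -(7 / 384 : ℝ) * S.dL + (7 / 6 : ℝ) * S.dL^2) • S.ax 0 +
      (-(245 / 196608 : ℝ) + (49 / 768 : ℝ) * S.dL) • S.ax 1 +
      ((49 / 196608 : ℝ)) • S.ax 2 +
      (-(13 / 1536 : ℝ) + -(5 / 12 : ℝ) * S.dL) • S.sig +
      (-(7 / 1536 : ℝ)) • S.sigE +
      ((7 / 2048 : ℝ)) • S.sigO

/-- The next axis in terms of five consecutive ones. -/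
noncomputable def rVec (S : Axes mul B) : V :=
  (-(6 : ℝ) + (256 : ℝ) * S.dL) • S.ax (-1) +
      ((1 : ℝ)) • S.ax (-2) +
      ((33 / 7 : ℝ) + (128 / 7 : ℝ) * S.dQ + -(2304 / 7 : ℝ) * S.dL + (32768 / 7 : ℝ) * S.dL^2) • S.ax 0 +
      (-(33 / 7 : ℝ) + -(128 / 7 : ℝ) * S.dP + (2304 / 7 : ℝ) * S.dL + -(32768 / 7 : ℝ) * S.dL^2) • S.ax 1 +
      ((6 : ℝ) + -(256 : ℝ) * S.dL) • S.ax 2 +
      (-(32 : ℝ)) • S.sigE +
      ((32 : ℝ)) • S.sigO

variable (S : Axes mul B)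

set_option maxHeartbeats 1000000 in
/-- The two resurrection identities at the base axis. -/
theorem master : mul (S.ax 0) S.sigO = S.xVec ∧ mul S.sig S.sig = S.tVec := by
  obtain ⟨-, -, -, hu, huv, hv⟩ := axis_facts S.amb (S.pair 0) (S.norm 0) (S.ax 1)
  have hs : sprod mul (S.ax 0) (S.ax 1) = S.sig := rfl
  have hl : B (S.ax 0) (S.ax 1) = S.dL := rfl
  have c := S.amb.1
  have hm : S.mu 0 (S.ax 1) = S.ax (-1) := by rw [S.refl]; norm_num
  rw [hm] at hu huv hv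
  simp only [uPart, vPart, hs, hl] at hu huv hv
  -- the table of products
  have i0 := S.idem 0
  have i1 := S.idem 1
  have im := S.idem (-1)
  have a01 : mul (S.ax 0) (S.ax 1) = S.sig + (1 / 32 : ℝ) • (S.ax 0 + S.ax 1) := by
    simpa using S.mul_adj 0
  have a0m : mul (S.ax 0) (S.ax (-1)) = S.sig + (1 / 32 : ℝ) • (S.ax (-1) + S.ax 0) := by
    rw [c]; simpa using S.mul_adj (-1)
  have a02 : mul (S.ax 0) (S.ax 2) = S.sigE + (1 / 32 : ℝ) • (S.ax 0 + S.ax 2) := by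
    simpa using S.mul_two_even 0
  have a0n : mul (S.ax 0) (S.ax (-2)) = S.sigE + (1 / 32 : ℝ) • (S.ax (-2) + S.ax 0) := by
    rw [c]; simpa using S.mul_two_even (-1)
  have a10 : mul (S.ax 1) (S.ax 0) = S.sig + (1 / 32 : ℝ) • (S.ax 0 + S.ax 1) := by rw [c, a01]
  have am0 : mul (S.ax (-1)) (S.ax 0) = S.sig + (1 / 32 : ℝ) • (S.ax (-1) + S.ax 0) := by
    rw [c, a0m]
  have am1 : mul (S.ax (-1)) (S.ax 1) = S.sigO + (1 / 32 : ℝ) • (S.ax (-1) + S.ax 1) := by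
    simpa using S.mul_two_odd (-1)
  have a1m : mul (S.ax 1) (S.ax (-1)) = S.sigO + (1 / 32 : ℝ) • (S.ax (-1) + S.ax 1) := by
    rw [c, am1]
  have s0 : mul (S.ax 0) S.sig = (7 / 32 : ℝ) • S.sig + (3 / 4 * S.dL - 25 / 1024) • S.ax 0 +
      (7 / 2048 : ℝ) • (S.ax 1 + S.ax (-1)) := by simpa using S.mul_sig 0
  have s1 : mul (S.ax 1) S.sig = (7 / 32 : ℝ) • S.sig + (3 / 4 * S.dL - 25 / 1024) • S.ax 1 +
      (7 / 2048 : ℝ) • (S.ax 2 + S.ax 0) := by simpa using S.mul_sig 1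
  have sm : mul (S.ax (-1)) S.sig = (7 / 32 : ℝ) • S.sig + (3 / 4 * S.dL - 25 / 1024) • S.ax (-1) +
      (7 / 2048 : ℝ) • (S.ax 0 + S.ax (-2)) := by simpa using S.mul_sig (-1)
  have e0 : mul (S.ax 0) S.sigE = (7 / 32 : ℝ) • S.sigE + (3 / 4 * S.dP - 25 / 1024) • S.ax 0 +
      (7 / 2048 : ℝ) • (S.ax 2 + S.ax (-2)) := by simpa using S.mul_sigE 0
  have t0 : mul S.sig (S.ax 0) = _ := (c _ _).trans s0
  have t1 : mul S.sig (S.ax 1) = _ := (c _ _).trans s1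
  have tm : mul S.sig (S.ax (-1)) = _ := (c _ _).trans sm
  have hBv : B ((4 : ℝ) • S.sig + (1 / 8 - 4 * S.dL) • S.ax 0 +
      (1 / 16 : ℝ) • (S.ax 1 + S.ax (-1))) (S.ax 1) =
      4 * (S.dL - (1 / 32) * (1 + S.dL)) + (1 / 8 - 4 * S.dL) * S.dL + (1 / 16) * (1 + S.dQ) := by
    have hq : B (S.ax (-1)) (S.ax 1) = S.dQ := rfl
    simp only [map_add, map_smul, LinearMap.add_apply, LinearMap.smul_apply, smul_eq_mul, S.B_sig,
      hl, S.norm, hq]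
  rw [hBv] at hv
  simp only [map_add, map_smul, LinearMap.add_apply, LinearMap.smul_apply, i0, i1, im, a01, a0m,
    a10, am0, am1, a1m, s0, s1, sm, e0, t0, t1, tm, a02, a0n] at hu huv hv
  refine ⟨?_, ?_⟩
  · rw [xVec]
    linear_combination (norm := module) (8 / 3 : ℝ) • hu - (8 / 3 : ℝ) • hv
  · rw [tVec]
    linear_combination (norm := module)
      (-1 / 24 : ℝ) • hu + (1 / 4 : ℝ) • huv + (7 / 24 : ℝ) • hv

end Axes

end CfsgLib.Trans3.Sakuma
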