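import Cfsg.Agent.Lib.Trans3.Sakuma.Master

/-!
The two scalar equations of Sakuma's theorem.
-/

set_option autoImplicit false

namespace CfsgLib.Trans3.Sakuma

open Cfsg.Axial Majorana

variable {V : Type*} [AddCommGroup V] [Module ℝ V] {mul : V →ₗ[ℝ] V →ₗ[ℝ] V}
  {B : LinearMap.BilinForm ℝ V}

namespace Axes

/-- The product of axes at distance three. -/
noncomputable def wVec (S : Axes mul B) : V :=
  (-(37 / 96 : ℝ) + (40 / 3 : ℝ) * S.dL) • S.ax (-1) +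
      (-(1 / 24 : ℝ)) • S.ax (-2) +
      ((1363 / 336 : ℝ) + -(160 / 21 : ℝ) * S.dP + -(5576 / 21 : ℝ) * S.dL + (88064 / 21 : ℝ) * S.dL^2) • S.ax 0 +
      (-(29 / 84 : ℝ) + -(4 / 7 : ℝ) * S.dP + (328 / 21 : ℝ) * S.dL + -(1024 / 7 : ℝ) * S.dL^2) • S.ax 1 +
      ((11 / 96 : ℝ) + -(8 : ℝ) * S.dL) • S.ax 2 +
      (-(491 / 21 : ℝ) + -(128 / 7 : ℝ) * S.dP + (19456 / 21 : ℝ) * S.dL + -(32768 / 7 : ℝ) * S.dL^2) • S.sig +
      ((7 / 3 : ℝ) + -(256 : ℝ) * S.dL) • S.sigE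

variable (S : Axes mul B)

theorem next_ax : S.ax 3 = S.rVec := by
  have h0 := S.master.2
  have h1 := (S.shift 1).master.2
  rw [shift_one_sig, h0] at h1
  simp only [tVec, shift_one_dL, shift_one_dQ, shift_one_sig, shift_one_sigE, shift_one_sigO] at h1
  simp only [shift] at h1
  norm_num at h1
  rw [rVec]
  linear_combination (norm := module) (-(196608 / 49) : ℝ) • h1

theorem B_zero_one : B (S.ax 1) (S.ax 0) = S.dL := by rw [S.symm_B]; rfl

theorem dP_eq : S.dP = S.dQ := by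
  have h := S.assoc_B S.sig S.sig (S.ax 0)
  rw [S.master.2, S.amb.1 S.sig (S.ax 0), show mul (S.ax 0) S.sig = _ from S.mul_sig 0] at h
  have b1 := S.B_sig 1
  have bm := S.B_sig (-1)
  have b0 := S.B_sig 0
  have e0 := S.B_sigE_even 0
  have o0 := S.B_sigO_even 0
  have bs : B S.sig S.sig = B S.sig (mul (S.ax 0) (S.ax 1)) - (1 / 32) * (B S.sig (S.ax 0) + B S.sig (S.ax 1)) := by
    conv_lhs => arg 2; rw [sig, sprod]
    rw [map_sub, map_smul, map_add, smul_eq_mul]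
  rw [S.assoc_B S.sig (S.ax 0), S.amb.1 S.sig (S.ax 0), show mul (S.ax 0) S.sig = _ from S.mul_sig 0] at bs
  have a10 : B (S.ax (-1)) (S.ax 0) = S.dL := by simpa using S.B_adj (-1)
  have a01 : B (S.ax 0) (S.ax 1) = S.dL := rfl
  have aq : B (S.ax (-1)) (S.ax 1) = S.dQ := rfl
  have an : B (S.ax (-2)) (S.ax 0) = S.dP := by simpa using S.B_two_even (-1)
  have ap : B (S.ax 2) (S.ax 0) = S.dP := by rw [S.symm_B]; rfl
  simp only [tVec, zero_add, zero_sub, mul_zero, map_add, map_smul, LinearMap.add_apply,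
    LinearMap.smul_apply, smul_eq_mul, S.norm, S.B_zero_one, a10, a01, aq, an, ap, b0, b1, bm, e0, o0]
    at h bs e0 o0
  rw [bs] at h
  linarith

theorem al_three : S.al 3 = (33 / 7) + -(33 / 7) * S.dP + -(2169 / 7) * S.dL +
    -(1920 / 7) * S.dL * S.dP + (36864 / 7) * S.dL^2 + -(32768 / 7) * S.dL^3 := by
  have h : B (S.ax 0) (S.ax 3) = B (S.ax 0) S.rVec := by rw [S.next_ax]
  have e0 : B (S.ax 0) S.sigE = _ := (S.symm_B _ _).trans (S.B_sigE_even 0)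
  have o0 : B (S.ax 0) S.sigO = _ := (S.symm_B _ _).trans (S.B_sigO_even 0)
  have a10 : B (S.ax 0) (S.ax (-1)) = S.dL := by rw [S.symm_B]; simpa using S.B_adj (-1)
  have a01 : B (S.ax 0) (S.ax 1) = S.dL := rfl
  have an : B (S.ax 0) (S.ax (-2)) = S.dP := by rw [S.symm_B]; simpa using S.B_two_even (-1)
  have ap : B (S.ax 0) (S.ax 2) = S.dP := rfl
  simp only [rVec, map_add, map_smul, smul_eq_mul, mul_zero, S.norm, e0, o0, a10, a01, an, ap,
    ← S.dP_eq] at h e0 o0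
  rw [al, h]
  ring

theorem al_four : S.al 4 = (156 / 7 : ℝ) + -(3 : ℝ) * S.dP + -(128 / 7 : ℝ) * S.dP^2 + -(19840 / 7 : ℝ) * S.dL + -(640 / 7 : ℝ) * S.dL * S.dP + (110592 : ℝ) * S.dL^2 + (65536 : ℝ) * S.dL^2 * S.dP + -(9601024 / 7 : ℝ) * S.dL^3 + (8388608 / 7 : ℝ) * S.dL^4 := by
  have h : B (S.ax 2) (S.ax 3) = B (S.ax 2) S.rVec := by rw [S.next_ax]
  have e2 : B (S.ax 2) S.sigE = _ := (S.symm_B _ _).trans (by simpa using S.B_sigE_even 1)
  have o2 : B (S.ax 2) S.sigO = _ := (S.symm_B _ _).trans (by simpa using S.B_sigO_even 1)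
  have l3 : B (S.ax 2) (S.ax 3) = S.dL := by simpa using S.B_adj 2
  have l1 : B (S.ax 2) (S.ax 1) = S.dL := by rw [S.symm_B]; simpa using S.B_adj 1
  have p0 : B (S.ax 2) (S.ax 0) = S.dP := by rw [S.symm_B]; rfl
  have t1 : B (S.ax 2) (S.ax (-1)) = S.al 3 := by rw [S.symm_B]; simpa using S.B_odd (-1) 1
  have f2 : B (S.ax 2) (S.ax (-2)) = S.al 4 := by rw [S.symm_B]; simpa using S.B_even (-1) 4
  simp only [rVec, map_add, map_smul, smul_eq_mul, S.norm, l3, l1, p0, t1, f2, e2, o2, S.al_three,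
    ← S.dP_eq] at h
  linear_combination -h

theorem al_five : S.al 5 = (5512 / 49 : ℝ) + -(5256 / 49 : ℝ) * S.dP + -(256 / 49 : ℝ) * S.dP^2 + -(137721 / 7 : ℝ) * S.dL + (259584 / 49 : ℝ) * S.dL * S.dP + (475136 / 49 : ℝ) * S.dL * S.dP^2 + (8683520 / 7 : ℝ) * S.dL^2 + (12582912 / 49 : ℝ) * S.dL^2 * S.dP + -(1633419264 / 49 : ℝ) * S.dL^3 + -(754974720 / 49 : ℝ) * S.dL^3 * S.dP + (16273899520 / 49 : ℝ) * S.dL^4 + -(13958643712 / 49 : ℝ) * S.dL^5 := by
  have h : B (S.ax (-2)) (S.ax 3) = B (S.ax (-2)) S.rVec := by rw [S.next_ax]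
  have e2 : B (S.ax (-2)) S.sigE = _ := (S.symm_B _ _).trans (by simpa using S.B_sigE_even (-1))
  have o2 : B (S.ax (-2)) S.sigO = _ := (S.symm_B _ _).trans (by simpa using S.B_sigO_even (-1))
  have f3 : B (S.ax (-2)) (S.ax 3) = S.al 5 := by simpa using S.B_odd (-2) 2
  have l1 : B (S.ax (-2)) (S.ax (-1)) = S.dL := by simpa using S.B_adj (-2)
  have p0 : B (S.ax (-2)) (S.ax 0) = S.dP := by simpa using S.B_two_even (-1)
  have t1 : B (S.ax (-2)) (S.ax 1) = S.al 3 := by simpa using S.B_odd (-2) 1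
  have f2 : B (S.ax (-2)) (S.ax 2) = S.al 4 := by simpa using S.B_even (-1) 4
  simp only [rVec, map_add, map_smul, smul_eq_mul, S.norm, f3, l1, p0, t1, f2, e2, o2, S.al_three,
    S.al_four, ← S.dP_eq] at h
  linear_combination h

theorem mul_three : mul (S.ax 0) (S.ax 3) = S.wVec := by
  have c := S.amb.1
  have i0 := S.idem 0
  have a01 : mul (S.ax 0) (S.ax 1) = S.sig + (1 / 32 : ℝ) • (S.ax 0 + S.ax 1) := by
    simpa using S.mul_adj 0
  have a0m : mul (S.ax 0) (S.ax (-1)) = S.sig + (1 / 32 : ℝ) • (S.ax (-1) + S.ax 0) := by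
    rw [c]; simpa using S.mul_adj (-1)
  have a02 : mul (S.ax 0) (S.ax 2) = S.sigE + (1 / 32 : ℝ) • (S.ax 0 + S.ax 2) := by
    simpa using S.mul_two_even 0
  have a0n : mul (S.ax 0) (S.ax (-2)) = S.sigE + (1 / 32 : ℝ) • (S.ax (-2) + S.ax 0) := by
    rw [c]; simpa using S.mul_two_even (-1)
  have e0 : mul (S.ax 0) S.sigE = (7 / 32 : ℝ) • S.sigE + (3 / 4 * S.dP - 25 / 1024) • S.ax 0 +
      (7 / 2048 : ℝ) • (S.ax 2 + S.ax (-2)) := by simpa using S.mul_sigE 0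
  rw [S.next_ax, rVec, wVec]
  simp only [map_add, map_smul, i0, a01, a0m, a02, a0n, e0, S.master.1, xVec, ← S.dP_eq]
  module

theorem flip_three_dL : (S.flip 3).dL = S.dL := by
  show B (S.ax (3 - 0)) (S.ax (3 - 1)) = _
  norm_num
  rw [S.symm_B]; simpa using S.B_adj 2

theorem flip_three_dP : (S.flip 3).dP = S.dQ := by
  show B (S.ax (3 - 0)) (S.ax (3 - 2)) = _
  norm_num
  rw [S.symm_B]; simpa using S.B_two_odd 0

theorem flip_three_sig : (S.flip 3).sig = S.sig := by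
  show sprod mul (S.ax (3 - 0)) (S.ax (3 - 1)) = _
  norm_num
  rw [S.sprod_comm]; simpa using S.sprod_adj 2

theorem flip_three_sigE : (S.flip 3).sigE = S.sigO := by
  show sprod mul (S.ax (3 - 0)) (S.ax (3 - 2)) = _
  norm_num
  rw [S.sprod_comm]; simpa using S.sprod_two_odd 0

theorem al_four_odd : B (S.ax 1) (S.ax 5) = S.al 4 := by
  have h : (S.shift 1).al 4 = S.al 4 := by
    rw [al_four, al_four, shift_one_dL, shift_one_dP, ← S.dP_eq]
  exact h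

theorem w_flip : S.wVec = (S.flip 3).wVec := by
  rw [← S.mul_three, ← (S.flip 3).mul_three]
  show _ = mul (S.ax (3 - 0)) (S.ax (3 - 3))
  norm_num
  exact S.amb.1 _ _

theorem eqn_zero : -(351 / 196 : ℝ) + (8703 / 196 : ℝ) * S.dP + -(2088 / 49 : ℝ) * S.dP^2 + (216 / 7 : ℝ) * S.dL + -(124392 / 49 : ℝ) * S.dL * S.dP + -(70656 / 49 : ℝ) * S.dL * S.dP^2 + (92160 / 7 : ℝ) * S.dL^2 + (1195008 / 49 : ℝ) * S.dL^2 * S.dP + -(33103872 / 49 : ℝ) * S.dL^3 + -(19660800 / 49 : ℝ) * S.dL^3 * S.dP + (453771264 / 49 : ℝ) * S.dL^4 + -(402653184 / 49 : ℝ) * S.dL^5 = 0 := by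
  have h : B (S.ax 0) S.wVec = B (S.ax 0) (S.flip 3).wVec := by rw [← S.w_flip]
  simp only [wVec, flip_three_dL, flip_three_dP, flip_three_sig, flip_three_sigE] at h
  simp only [flip] at h
  norm_num at h
  have g0 : B (S.ax 0) S.sig = _ := (S.symm_B _ _).trans (S.B_sig 0)
  have e0 : B (S.ax 0) S.sigE = _ := (S.symm_B _ _).trans (S.B_sigE_even 0)
  have o0 : B (S.ax 0) S.sigO = _ := (S.symm_B _ _).trans (S.B_sigO_even 0)
  have a10 : B (S.ax 0) (S.ax (-1)) = S.dL := by rw [S.symm_B]; simpa using S.B_adj (-1)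
  have a01 : B (S.ax 0) (S.ax 1) = S.dL := rfl
  have an : B (S.ax 0) (S.ax (-2)) = S.dP := by rw [S.symm_B]; simpa using S.B_two_even (-1)
  have ap : B (S.ax 0) (S.ax 2) = S.dP := rfl
  have a3 : B (S.ax 0) (S.ax 3) = S.al 3 := rfl
  have a4 : B (S.ax 0) (S.ax 4) = S.al 4 := rfl
  have a5 : B (S.ax 0) (S.ax 5) = S.al 5 := rfl
  simp only [mul_zero, S.norm, g0, e0, o0, a10, a01, an, ap, a3, a4, a5, S.al_three, S.al_four,
    S.al_five, ← S.dP_eq] at h e0 o0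
  linear_combination h

theorem eqn_one : (117 / 56 : ℝ) + -(501 / 56 : ℝ) * S.dP + (48 / 7 : ℝ) * S.dP^2 + -(1800 / 7 : ℝ) * S.dL + (3336 / 7 : ℝ) * S.dL * S.dP + (69120 / 7 : ℝ) * S.dL^2 + (15360 / 7 : ℝ) * S.dL^2 * S.dP + -(872448 / 7 : ℝ) * S.dL^3 + (786432 / 7 : ℝ) * S.dL^4 = 0 := by
  have h : B (S.ax 1) S.wVec = B (S.ax 1) (S.flip 3).wVec := by rw [← S.w_flip]
  simp only [wVec, flip_three_dL, flip_three_dP, flip_three_sig, flip_three_sigE] at h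
  simp only [flip] at h
  norm_num at h
  have g1 : B (S.ax 1) S.sig = _ := (S.symm_B _ _).trans (S.B_sig 1)
  have e1 : B (S.ax 1) S.sigE = _ := (S.symm_B _ _).trans (by simpa using S.B_sigE_odd 0)
  have o1 : B (S.ax 1) S.sigO = _ := (S.symm_B _ _).trans (by simpa using S.B_sigO_odd 0)
  have a10 : B (S.ax 1) (S.ax (-1)) = S.dQ := by rw [S.symm_B]; rfl
  have a01 : B (S.ax 1) (S.ax 0) = S.dL := S.B_zero_one
  have an : B (S.ax 1) (S.ax (-2)) = S.al 3 := by rw [S.symm_B]; simpa using S.B_odd (-2) 1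
  have ap : B (S.ax 1) (S.ax 2) = S.dL := by simpa using S.B_adj 1
  have a3 : B (S.ax 1) (S.ax 3) = S.dQ := by simpa using S.B_two_odd 0
  have a4 : B (S.ax 1) (S.ax 4) = S.al 3 := by simpa using S.B_odd 1 1
  have a5 : B (S.ax 1) (S.ax 5) = S.al 4 := S.al_four_odd
  simp only [S.norm, g1, e1, o1, a10, a01, an, ap, a3, a4, a5, S.al_three, S.al_four,
    ← S.dP_eq] at h
  linear_combination h

end Axes

end CfsgLib.Trans3.Sakuma
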