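import Cfsg.Agent.Lib.Trans3.Sakuma.Axis

/-!
The sequence of axes of a dihedral group generated by two Majorana involutions, with its two
elementary symmetrised products and the inner products among them.
-/

set_option autoImplicit false

namespace CfsgLib.Trans3.Sakuma

open Cfsg.Axial Majorana

variable {V : Type*} [AddCommGroup V] [Module ℝ V]

/-- A sequence of Majorana axes, closed under its reflections. -/
structure Axes (mul : V →ₗ[ℝ] V →ₗ[ℝ] V) (B : LinearMap.BilinForm ℝ V) where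
  amb : IsMajoranaAmbient mul B
  ax : ℤ → V
  mu : ℤ → V ≃ₗ[ℝ] V
  pair : ∀ i, IsMajoranaPair mul B (mu i) (ax i)
  refl : ∀ c i, mu c (ax i) = ax (2 * c - i)
  norm : ∀ i, B (ax i) (ax i) = 1

variable {mul : V →ₗ[ℝ] V →ₗ[ℝ] V} {B : LinearMap.BilinForm ℝ V}

namespace Axes

/-- Shift the indices. -/
def shift (S : Axes mul B) (k : ℤ) : Axes mul B where
  amb := S.amb
  ax i := S.ax (i + k)
  mu i := S.mu (i + k)
  pair i := S.pair (i + k)
  refl c i := by rw [S.refl]; congr 1; ring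
  norm i := S.norm (i + k)

/-- Reverse the indices. -/
def flip (S : Axes mul B) (k : ℤ) : Axes mul B where
  amb := S.amb
  ax i := S.ax (k - i)
  mu i := S.mu (k - i)
  pair i := S.pair (k - i)
  refl c i := by rw [S.refl]; congr 1; ring
  norm i := S.norm (k - i)

variable (S : Axes mul B)

/-- Inner product of neighbours. -/
def dL : ℝ := B (S.ax 0) (S.ax 1)

/-- Inner product at distance two, even position. -/
def dP : ℝ := B (S.ax 0) (S.ax 2)

/-- Inner product at distance two, odd position. -/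
def dQ : ℝ := B (S.ax (-1)) (S.ax 1)

/-- Inner product at a given distance from the base axis. -/
def al (n : ℤ) : ℝ := B (S.ax 0) (S.ax n)

/-- The product of neighbours, symmetrised. -/
noncomputable def sig : V := sprod mul (S.ax 0) (S.ax 1)

/-- The product at distance two, even position, symmetrised. -/
noncomputable def sigE : V := sprod mul (S.ax 0) (S.ax 2)

/-- The product at distance two, odd position, symmetrised. -/
noncomputable def sigO : V := sprod mul (S.ax (-1)) (S.ax 1)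

include S in
theorem sprod_comm (x y : V) : sprod mul x y = sprod mul y x := by
  rw [sprod, sprod, S.amb.1 x y, add_comm]

theorem idem (i : ℤ) : mul (S.ax i) (S.ax i) = S.ax i := (S.pair i).2.2.1.1.2.1

include S in
theorem symm_B (x y : V) : B x y = B y x := S.amb.2.1 x y

include S in
theorem assoc_B (x y z : V) : B x (mul y z) = B (mul x y) z := S.amb.2.2.2.1 x y z

theorem ref_B (c i j : ℤ) : B (S.ax (2 * c - i)) (S.ax (2 * c - j)) = B (S.ax i) (S.ax j) := by
  rw [← S.refl, ← S.refl, (S.pair c).2.1]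

theorem B_shift_two (i j : ℤ) : B (S.ax (i + 2)) (S.ax (j + 2)) = B (S.ax i) (S.ax j) := by
  rw [show i + 2 = 2 * 1 - (2 * 0 - i) by ring, show j + 2 = 2 * 1 - (2 * 0 - j) by ring,
    S.ref_B, S.ref_B]

theorem B_shift_even (i j k : ℤ) : B (S.ax (i + 2 * k)) (S.ax (j + 2 * k)) = B (S.ax i) (S.ax j) := by
  induction k using Int.induction_on with
  | zero => simp
  | succ n ih =>
    rw [show i + 2 * ((n : ℤ) + 1) = (i + 2 * n) + 2 by ring,
      show j + 2 * ((n : ℤ) + 1) = (j + 2 * n) + 2 by ring, S.B_shift_two, ih]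
  | pred n ih =>
    rw [← S.B_shift_two, show i + 2 * (-(n : ℤ) - 1) + 2 = i + 2 * (-(n : ℤ)) by ring,
      show j + 2 * (-(n : ℤ) - 1) + 2 = j + 2 * (-(n : ℤ)) by ring, ih]

/-- At odd distance the inner product depends only on the distance. -/
theorem B_odd (i : ℤ) (n : ℤ) : B (S.ax i) (S.ax (i + (2 * n + 1))) = S.al (2 * n + 1) := by
  obtain ⟨k, rfl | rfl⟩ := Int.even_or_odd' i
  · have := S.B_shift_even 0 (2 * n + 1) k
    rw [zero_add] at this
    rw [al, ← this, add_comm (2 * k)]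
  · have := S.B_shift_even 0 (2 * n + 1) (-k - n - 1)
    rw [zero_add] at this
    rw [al, ← this, S.symm_B (S.ax (2 * k + 1)), ← S.ref_B 0]
    congr 2 <;> ring

/-- At even distance from an even position. -/
theorem B_even (k : ℤ) (n : ℤ) : B (S.ax (2 * k)) (S.ax (2 * k + n)) = S.al n := by
  have := S.B_shift_even 0 n k
  rw [zero_add] at this
  rw [al, ← this, add_comm (2 * k)]

theorem B_adj (i : ℤ) : B (S.ax i) (S.ax (i + 1)) = S.dL := by
  simpa [al, dL] using S.B_odd i 0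

theorem B_two_even (k : ℤ) : B (S.ax (2 * k)) (S.ax (2 * k + 2)) = S.dP := S.B_even k 2

theorem B_two_odd (k : ℤ) : B (S.ax (2 * k + 1)) (S.ax (2 * k + 1 + 2)) = S.dQ := by
  rw [show 2 * k + 1 = -1 + 2 * (k + 1) by ring, show -1 + 2 * (k + 1) + 2 = 1 + 2 * (k + 1) by ring,
    S.B_shift_even, dQ]

theorem sprod_adj (i : ℤ) : sprod mul (S.ax i) (S.ax (i + 1)) = S.sig := by
  have key : ∀ j : ℤ, sprod mul (S.ax (j - 1)) (S.ax (j - 1 + 1)) = sprod mul (S.ax j) (S.ax (j + 1)) := by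
    intro j
    have h := (axis_facts S.amb (S.pair j) (S.norm j) (S.ax (j + 1))).1
    rw [S.refl, show 2 * j - (j + 1) = j - 1 by ring] at h
    rw [sub_add_cancel, S.sprod_comm, h]
  induction i using Int.induction_on with
  | zero => rw [zero_add, sig]
  | succ n ih => rw [← key ((n : ℤ) + 1), add_sub_cancel_right, ih]
  | pred n ih => rw [key (-(n : ℤ)), ih]

theorem sprod_two (i : ℤ) : sprod mul (S.ax (i - 2)) (S.ax i) = sprod mul (S.ax i) (S.ax (i + 2)) := by
  have h := (axis_facts S.amb (S.pair i) (S.norm i) (S.ax (i + 2))).1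
  rw [S.refl, show 2 * i - (i + 2) = i - 2 by ring] at h
  rw [S.sprod_comm, h]

theorem sprod_two_shift (i k : ℤ) :
    sprod mul (S.ax (i + 2 * k)) (S.ax (i + 2 * k + 2)) = sprod mul (S.ax i) (S.ax (i + 2)) := by
  induction k using Int.induction_on with
  | zero => simp
  | succ n ih =>
    rw [show i + 2 * ((n : ℤ) + 1) = i + 2 * n + 2 by ring, ← S.sprod_two,
      show i + 2 * (n : ℤ) + 2 - 2 = i + 2 * n by ring, ih]
  | pred n ih =>
    rw [show i + 2 * (-(n : ℤ) - 1) = i + 2 * (-(n : ℤ)) - 2 by ring, sub_add_cancel, S.sprod_two, ih]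

theorem sprod_two_even (k : ℤ) : sprod mul (S.ax (2 * k)) (S.ax (2 * k + 2)) = S.sigE := by
  have := S.sprod_two_shift 0 k
  rwa [zero_add, zero_add] at this

theorem sprod_two_odd (k : ℤ) : sprod mul (S.ax (2 * k + 1)) (S.ax (2 * k + 1 + 2)) = S.sigO := by
  rw [show 2 * k + 1 = -1 + 2 * (k + 1) by ring, S.sprod_two_shift, sigO]
  norm_num

theorem mul_adj (i : ℤ) :
    mul (S.ax i) (S.ax (i + 1)) = S.sig + (1 / 32 : ℝ) • (S.ax i + S.ax (i + 1)) := by
  rw [← S.sprod_adj i, sprod]; abel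

theorem mul_two_even (k : ℤ) : mul (S.ax (2 * k)) (S.ax (2 * k + 2)) =
    S.sigE + (1 / 32 : ℝ) • (S.ax (2 * k) + S.ax (2 * k + 2)) := by
  rw [← S.sprod_two_even k, sprod]; abel

theorem mul_two_odd (k : ℤ) : mul (S.ax (2 * k + 1)) (S.ax (2 * k + 1 + 2)) =
    S.sigO + (1 / 32 : ℝ) • (S.ax (2 * k + 1) + S.ax (2 * k + 1 + 2)) := by
  rw [← S.sprod_two_odd k, sprod]; abel

theorem mul_sig (i : ℤ) : mul (S.ax i) S.sig = (7 / 32 : ℝ) • S.sig +
    (3 / 4 * S.dL - 25 / 1024) • S.ax i + (7 / 2048 : ℝ) • (S.ax (i + 1) + S.ax (i - 1)) := by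
  have h := (axis_facts S.amb (S.pair i) (S.norm i) (S.ax (i + 1))).2.2.1
  rwa [S.refl, show 2 * i - (i + 1) = i - 1 by ring, S.sprod_adj, S.B_adj] at h

theorem mul_sigE (k : ℤ) : mul (S.ax (2 * k)) S.sigE = (7 / 32 : ℝ) • S.sigE +
    (3 / 4 * S.dP - 25 / 1024) • S.ax (2 * k) +
      (7 / 2048 : ℝ) • (S.ax (2 * k + 2) + S.ax (2 * k - 2)) := by
  have h := (axis_facts S.amb (S.pair (2 * k)) (S.norm _) (S.ax (2 * k + 2))).2.2.1
  rwa [S.refl, show 2 * (2 * k) - (2 * k + 2) = 2 * k - 2 by ring, S.sprod_two_even, S.B_two_even] at h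

theorem mul_sigO (k : ℤ) : mul (S.ax (2 * k + 1)) S.sigO = (7 / 32 : ℝ) • S.sigO +
    (3 / 4 * S.dQ - 25 / 1024) • S.ax (2 * k + 1) +
      (7 / 2048 : ℝ) • (S.ax (2 * k + 1 + 2) + S.ax (2 * k + 1 - 2)) := by
  have h := (axis_facts S.amb (S.pair (2 * k + 1)) (S.norm _) (S.ax (2 * k + 1 + 2))).2.2.1
  rwa [S.refl, show 2 * (2 * k + 1) - (2 * k + 1 + 2) = 2 * k + 1 - 2 by ring, S.sprod_two_odd,
    S.B_two_odd] at h

theorem B_sig (i : ℤ) : B S.sig (S.ax i) = S.dL - (1 / 32) * (1 + S.dL) := by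
  rw [S.symm_B, ← S.sprod_adj i, sprod, map_sub, map_smul, map_add, S.assoc_B, S.idem, S.B_adj,
    S.norm, smul_eq_mul]

theorem B_sigE_even (k : ℤ) : B S.sigE (S.ax (2 * k)) = S.dP - (1 / 32) * (1 + S.dP) := by
  rw [S.symm_B, ← S.sprod_two_even k, sprod, map_sub, map_smul, map_add, S.assoc_B, S.idem,
    S.B_two_even, S.norm, smul_eq_mul]

theorem B_sigO_odd (k : ℤ) : B S.sigO (S.ax (2 * k + 1)) = S.dQ - (1 / 32) * (1 + S.dQ) := by
  rw [S.symm_B, ← S.sprod_two_odd k, sprod, map_sub, map_smul, map_add, S.assoc_B, S.idem,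
    S.B_two_odd, S.norm, smul_eq_mul]

theorem B_mid (i : ℤ) : B (S.ax i) (sprod mul (S.ax (i - 1)) (S.ax (i + 1))) =
    S.dL - (1 / 32) * (1 + S.dL) + (1 / 32) * (B (S.ax (i - 1)) (S.ax (i + 1)) - S.dL) := by
  have h1 : mul (S.ax i) (S.ax (i - 1)) = S.sig + (1 / 32 : ℝ) • (S.ax (i - 1) + S.ax i) := by
    have := S.mul_adj (i - 1)
    rw [sub_add_cancel] at this
    rw [S.amb.1, this]
  have h2 : B (S.ax i) (S.ax (i - 1)) = S.dL := by
    have := S.B_adj (i - 1)
    rw [sub_add_cancel] at this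
    rw [S.symm_B, this]
  rw [sprod, map_sub, map_smul, map_add, S.assoc_B, h1, h2, S.B_adj, map_add, map_smul, map_add]
  simp only [LinearMap.add_apply, LinearMap.smul_apply, smul_eq_mul]
  rw [S.B_sig, S.B_adj]
  ring

theorem B_sigE_odd (k : ℤ) : B S.sigE (S.ax (2 * k + 1)) =
    S.dL - (1 / 32) * (1 + S.dL) + (1 / 32) * (S.dP - S.dL) := by
  have h := S.B_mid (2 * k + 1)
  rw [add_sub_cancel_right, show 2 * k + 1 + 1 = 2 * k + 2 by ring, S.sprod_two_even,
    S.B_two_even] at h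
  rw [S.symm_B, h]

theorem B_sigO_even (k : ℤ) : B S.sigO (S.ax (2 * k)) =
    S.dL - (1 / 32) * (1 + S.dL) + (1 / 32) * (S.dQ - S.dL) := by
  have h := S.B_mid (2 * k)
  rw [show 2 * k - 1 = 2 * (k - 1) + 1 by ring, show 2 * k + 1 = 2 * (k - 1) + 1 + 2 by ring,
    S.sprod_two_odd, S.B_two_odd] at h
  rw [S.symm_B, h]

theorem shift_one_dL : (S.shift 1).dL = S.dL := S.B_adj 1

theorem shift_one_dP : (S.shift 1).dP = S.dQ := S.B_two_odd 0

theorem shift_one_dQ : (S.shift 1).dQ = S.dP := S.B_two_even 0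

theorem shift_one_sig : (S.shift 1).sig = S.sig := S.sprod_adj 1

theorem shift_one_sigE : (S.shift 1).sigE = S.sigO := S.sprod_two_odd 0

theorem shift_one_sigO : (S.shift 1).sigO = S.sigE := S.sprod_two_even 0

end Axes

end CfsgLib.Trans3.Sakuma
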